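import Cfsg.Agent.LFourR.QThree
import Cfsg.Agent.LThreeMB.Simp
import Cfsg.Agent.StdL2.G23Aut
import Cfsg.Agent.LieClassical.SLTwoThree
import Cfsg.Prelude.Def_Solvable
import Cfsg.Agent.Lib.DetFast
import Cfsg.Agent.FastGrp
import Cfsg.Agent.Prune
set_option linter.all false
prune_inst 0x7f00000000000000000000000000000000000000000000000000000000000000000000000000000000000000000000000000000000000000000000000000000000000000000000000000000000000000003fffffffffffffffffffffffffffbeffbdffffffff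
open scoped Cfsg.Agent.FastGrp

-- part: H244/G2/TetMore
section
/-!
# More facts on `SL(2,3)` in coordinates (helper244)
-/

set_option autoImplicit false

namespace Cfsg.Agent.H244.G2

open Matrix Cfsg.Agent.LFourR.QThreeSL Cfsg.Agent.LFourR.QThree

/-- more facts on `SL(2,3)` -/
structure More {K : Type*} [Group K] (i j x : K) : Prop where
  sq1 : ∀ g : K, g * g = 1 → g = 1 ∨ g = i * i
  noswap : ∀ g u v : K, u * u = i * i → v * v = i * i → u ≠ v → u ≠ v * (i * i) →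
    (g * u * g⁻¹ = v ∨ g * u * g⁻¹ = v * (i * i)) → (g * v * g⁻¹ = u ∨ g * v * g⁻¹ = u * (i * i)) → False
  aut : ∀ u w : K, u * u = i * i → w ^ 3 = 1 → w ≠ 1 → w * (w * u * w⁻¹) * w⁻¹ = u * (w * u * w⁻¹) →
    ∃ g : K, (g * u * g⁻¹ = i ∧ g * w * g⁻¹ = x) ∨ (g * u * g⁻¹ = j * (i * i) ∧ g * w * g⁻¹ = x⁻¹)
  cg : ∀ w : K, w * w = i * i → ∃ g : K, i = g * (w⁻¹ * (x * w * x⁻¹)) * g⁻¹

/-- the elements in normal form -/
def nf (t : Fin 4 × Fin 2 × Fin 3) : SpecialLinearGroup (Fin 2) (ZMod 3) :=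
  I3 ^ (t.1 : ℕ) * J3 ^ (t.2.1 : ℕ) * X3 ^ (t.2.2 : ℕ)

theorem nf_surj (g : SpecialLinearGroup (Fin 2) (ZMod 3)) : ∃ t, g = nf t := by
  obtain ⟨a, b, c, h⟩ := tet3.gen g
  exact ⟨(a, b, c), h⟩

/-- the elements of the quaternion subgroup -/
def qf (t : Fin 4 × Fin 2) : SpecialLinearGroup (Fin 2) (ZMod 3) := I3 ^ (t.1 : ℕ) * J3 ^ (t.2 : ℕ)

set_option maxRecDepth 100000 in
theorem sq1' : ∀ s, nf s * nf s = 1 → nf s = 1 ∨ nf s = I3 * I3 := by decide +kernel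

private noncomputable def _root_.Cfsg.Agent.LsF.f354017_0 : {f // @Cfsg.Agent.H244.G2.nf = f} := ⟨_, by first | (delta Cfsg.Agent.H244.G2.nf; rewrite [Cfsg.Agent.LsF.instSLMul_eq, Cfsg.Agent.LsF.instSLPow_eq]; exact rfl) | exact rfl⟩
private noncomputable def _root_.Cfsg.Agent.LsF.f354017_1 : {f // @Cfsg.Agent.H244.G2.qf = f} := ⟨_, by first | (delta Cfsg.Agent.H244.G2.qf; rewrite [Cfsg.Agent.LsF.instSLMul_eq, Cfsg.Agent.LsF.instSLPow_eq]; exact rfl) | exact rfl⟩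
set_option maxRecDepth 100000 in
theorem sqi' : ∀ s, nf s * nf s = I3 * I3 → ∃ a, nf s = qf a := by
  (refine of_decide_eq_true ?_; (try (rewrite [Cfsg.Agent.LsF.f354017_0.2, Cfsg.Agent.LsF.f354017_1.2, Cfsg.Agent.LsF.instSLMul_eq, Cfsg.Agent.LsF.dSL_eq, Cfsg.Agent.LsF.zdecEq_eq, Cfsg.Agent.LsF.prodFintype_eq, Cfsg.Agent.LsF.dForall_eq, Cfsg.Agent.LsF.dExists_eq, Cfsg.Agent.LsF.dAllP_eq, Cfsg.Agent.LsF.decide_eq])); decide +kernel)

set_option synthInstance.maxHeartbeats 400000 in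
set_option synthInstance.maxSize 1000 in
set_option maxRecDepth 100000 in
theorem noswap' : ∀ a b, qf a * qf a = I3 * I3 → qf b * qf b = I3 * I3 → qf a ≠ qf b →
    qf a ≠ qf b * (I3 * I3) → ∀ s, (nf s * qf a * (nf s)⁻¹ = qf b ∨ nf s * qf a * (nf s)⁻¹ = qf b * (I3 * I3)) →
    ¬ (nf s * qf b * (nf s)⁻¹ = qf a ∨ nf s * qf b * (nf s)⁻¹ = qf a * (I3 * I3)) := by
  (refine of_decide_eq_true ?_; (try (rewrite [Cfsg.Agent.LsF.f354017_1.2, Cfsg.Agent.LsF.f354017_0.2, Cfsg.Agent.LsF.instSLMul_eq, Cfsg.Agent.LsF.instSLInv_eq, Cfsg.Agent.LsF.dSL_eq, Cfsg.Agent.LsF.zdecEq_eq, Cfsg.Agent.LsF.prodFintype_eq, Cfsg.Agent.LsF.dForall_eq, Cfsg.Agent.LsF.dOr_eq, Cfsg.Agent.LsF.dNot_eq, Cfsg.Agent.LsF.dAllP_eq, Cfsg.Agent.LsF.decide_eq])); decide +kernel)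

set_option maxRecDepth 100000 in
theorem aut' : ∀ a s, qf a * qf a = I3 * I3 →
    nf s ^ 3 = 1 → nf s ≠ 1 →
    nf s * (nf s * qf a * (nf s)⁻¹) * (nf s)⁻¹ = qf a * (nf s * qf a * (nf s)⁻¹) →
    ∃ r, (nf r * qf a * (nf r)⁻¹ = I3 ∧ nf r * nf s * (nf r)⁻¹ = X3) ∨
      (nf r * qf a * (nf r)⁻¹ = J3 * (I3 * I3) ∧ nf r * nf s * (nf r)⁻¹ = X3⁻¹) := by
  (refine of_decide_eq_true ?_; (try (rewrite [Cfsg.Agent.LsF.f354017_1.2, Cfsg.Agent.LsF.f354017_0.2, Cfsg.Agent.LsF.instSLMul_eq, Cfsg.Agent.LsF.instSLInv_eq, Cfsg.Agent.LsF.instSLOne_eq, Cfsg.Agent.LsF.dSL_eq, Cfsg.Agent.LsF.zdecEq_eq, Cfsg.Agent.LsF.prodFintype_eq, Cfsg.Agent.LsF.dForall_eq, Cfsg.Agent.LsF.dExists_eq, Cfsg.Agent.LsF.dAnd_eq, Cfsg.Agent.LsF.dOr_eq, Cfsg.Agent.LsF.dNot_eq, Cfsg.Agent.LsF.dImp_eq, Cfsg.Agent.LsF.dAllP_eq, Cfsg.Agent.LsF.decide_eq])); decide +kernel)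

set_option maxRecDepth 100000 in
theorem cg' : ∀ a, qf a * qf a = I3 * I3 → ∃ r, I3 = nf r * ((qf a)⁻¹ * (X3 * qf a * X3⁻¹)) * (nf r)⁻¹ := by
  (refine of_decide_eq_true ?_; (try (rewrite [Cfsg.Agent.LsF.f354017_1.2, Cfsg.Agent.LsF.f354017_0.2, Cfsg.Agent.LsF.instSLMul_eq, Cfsg.Agent.LsF.instSLInv_eq, Cfsg.Agent.LsF.dSL_eq, Cfsg.Agent.LsF.zdecEq_eq, Cfsg.Agent.LsF.prodFintype_eq, Cfsg.Agent.LsF.dForall_eq, Cfsg.Agent.LsF.dExists_eq, Cfsg.Agent.LsF.dAllP_eq, Cfsg.Agent.LsF.decide_eq])); decide +kernel)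

theorem more3 : More I3 J3 X3 where
  sq1 := by
    intro g
    obtain ⟨s, rfl⟩ := nf_surj g
    exact sq1' s
  noswap := by
    intro g u v hu hv h1 h2 h3 h4
    obtain ⟨s, rfl⟩ := nf_surj g
    obtain ⟨s1, rfl⟩ := nf_surj u
    obtain ⟨s2, rfl⟩ := nf_surj v
    obtain ⟨a, e1⟩ := sqi' s1 hu
    obtain ⟨b, e2⟩ := sqi' s2 hv
    rw [e1, e2] at h1 h2 h3 h4
    rw [e1] at hu
    rw [e2] at hv
    exact noswap' a b hu hv h1 h2 s h3 h4
  aut := by
    intro u w hu hw hw1 h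
    obtain ⟨s1, rfl⟩ := nf_surj u
    obtain ⟨s2, rfl⟩ := nf_surj w
    obtain ⟨a, e1⟩ := sqi' s1 hu
    rw [e1] at hu h ⊢
    obtain ⟨r, hr⟩ := aut' a s2 hu hw hw1 h
    exact ⟨nf r, hr⟩
  cg := by
    intro w hw
    obtain ⟨s1, rfl⟩ := nf_surj w
    obtain ⟨a, e1⟩ := sqi' s1 hw
    rw [e1] at hw ⊢
    obtain ⟨r, hr⟩ := cg' a hw
    exact ⟨nf r, hr⟩

theorem More.map {K K' : Type*} [Group K] [Group K'] {i j x : K} (h : More i j x) (e : K ≃* K') :
    More (e i) (e j) (e x) where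
  sq1 := by
    intro g hg
    rcases h.sq1 (e.symm g) (by rw [← map_mul, hg, map_one]) with h1 | h1
    · left; rw [← e.apply_symm_apply g, h1, map_one]
    · right; rw [← e.apply_symm_apply g, h1, map_mul]
  noswap := by
    intro g u v
    obtain ⟨g, rfl⟩ := e.surjective g
    obtain ⟨u, rfl⟩ := e.surjective u
    obtain ⟨v, rfl⟩ := e.surjective v
    simp only [← map_mul, ← map_inv, e.injective.eq_iff, ne_eq]
    exact h.noswap g u v
  aut := by
    intro u w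
    obtain ⟨u, rfl⟩ := e.surjective u
    obtain ⟨w, rfl⟩ := e.surjective w
    simp only [← map_mul, ← map_inv, ← map_pow, e.injective.eq_iff, ne_eq, MulEquiv.map_eq_one_iff]
    intro h1 h2 h3 h4
    obtain ⟨g, hg⟩ := h.aut u w h1 h2 h3 h4
    refine ⟨e g, ?_⟩
    simp only [← map_mul, ← map_inv, e.injective.eq_iff]
    exact hg
  cg := by
    intro w
    obtain ⟨w, rfl⟩ := e.surjective w
    simp only [← map_mul, ← map_inv, e.injective.eq_iff]
    intro h1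
    obtain ⟨g, hg⟩ := h.cg w h1
    refine ⟨e g, ?_⟩
    simp only [← map_mul, ← map_inv, e.injective.eq_iff]
    exact hg

variable {G : Type*} [Group G]

/-- coordinates of a subgroup `L ≅ SL(2,3)` with all facts -/
structure TG (L : Subgroup G) (i j x : G) : Prop extends TetG L i j x where
  m : More (⟨i, hi⟩ : L) ⟨j, hj⟩ ⟨x, hx⟩

theorem exists_TG {L : Subgroup G} (e : Nonempty (L ≃* SpecialLinearGroup (Fin 2) (ZMod 3))) :
    ∃ i j x : G, TG L i j x := by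
  obtain ⟨e⟩ := e
  exact ⟨_, _, _, ⟨⟨(e.symm I3).2, (e.symm J3).2, (e.symm X3).2, tet3.map e.symm⟩, more3.map e.symm⟩⟩

namespace TG

variable {L : Subgroup G} {i j x : G}

theorem sq1 (h : TG L i j x) {g : G} (hg : g ∈ L) (h1 : g * g = 1) : g = 1 ∨ g = i * i := by
  rcases h.m.sq1 ⟨g, hg⟩ (Subtype.ext h1) with h2 | h2
  · left; exact congrArg Subtype.val h2
  · right; exact congrArg Subtype.val h2

theorem noswap (h : TG L i j x) {g u v : G} (hg : g ∈ L) (hu : u ∈ L) (hv : v ∈ L) (h1 : u * u = i * i)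
    (h2 : v * v = i * i) (h3 : u ≠ v) (h4 : u ≠ v * (i * i)) (h5 : g * u * g⁻¹ = v ∨ g * u * g⁻¹ = v * (i * i))
    (h6 : g * v * g⁻¹ = u ∨ g * v * g⁻¹ = u * (i * i)) : False := by
  refine h.m.noswap ⟨g, hg⟩ ⟨u, hu⟩ ⟨v, hv⟩ (Subtype.ext h1) (Subtype.ext h2) (fun e => h3 (congrArg Subtype.val e))
    (fun e => h4 (congrArg Subtype.val e)) ?_ ?_
  · exact h5.imp (fun e => Subtype.ext e) (fun e => Subtype.ext e)
  · exact h6.imp (fun e => Subtype.ext e) (fun e => Subtype.ext e)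

theorem aut (h : TG L i j x) {u w : G} (hu : u ∈ L) (hw : w ∈ L) (h1 : u * u = i * i) (h2 : w ^ 3 = 1)
    (h3 : w ≠ 1) (h4 : w * (w * u * w⁻¹) * w⁻¹ = u * (w * u * w⁻¹)) :
    ∃ g ∈ L, (g * u * g⁻¹ = i ∧ g * w * g⁻¹ = x) ∨ (g * u * g⁻¹ = j * (i * i) ∧ g * w * g⁻¹ = x⁻¹) := by
  obtain ⟨g, hg⟩ := h.m.aut ⟨u, hu⟩ ⟨w, hw⟩ (Subtype.ext h1) ((TetG.pow_sub hw).2 h2)
    (fun e => h3 (congrArg Subtype.val e)) (Subtype.ext h4)
  refine ⟨g, g.2, ?_⟩
  rcases hg with ⟨h5, h6⟩ | ⟨h5, h6⟩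
  · exact Or.inl ⟨congrArg Subtype.val h5, congrArg Subtype.val h6⟩
  · exact Or.inr ⟨congrArg Subtype.val h5, congrArg Subtype.val h6⟩

theorem cg (h : TG L i j x) {w : G} (hw : w ∈ L) (h1 : w * w = i * i) :
    ∃ g ∈ L, i = g * (w⁻¹ * (x * w * x⁻¹)) * g⁻¹ := by
  obtain ⟨g, hg⟩ := h.m.cg ⟨w, hw⟩ (Subtype.ext h1)
  exact ⟨g, g.2, congrArg Subtype.val hg⟩

end TG

end Cfsg.Agent.H244.G2
end

-- part: H244/LargeSimple
section
/-!
# Simplicity from a large extraspecial 2-subgroup (helper244)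

`isSimple`: `P` a large extraspecial subgroup of `C(t)`, `t` fused in `P` to another involution; if every normal
subgroup of `X` containing `t` contains `C(t)`, then `X` is simple.
-/

set_option autoImplicit false

namespace Cfsg.Agent.H244.LargeSimple

open Cfsg.Agent.Co2Type.Quad Cfsg.Agent.LargeExtra.Base
open Subgroup (centralizer mem_centralizer_singleton_iff)

variable {X : Type*} [Group X] {P : Subgroup X} {t : X}

theorem isSimple [Finite X] (L : Large P t)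
    (hC : ∀ Y : Subgroup X, Y.Normal → t ∈ Y → ∀ g : X, g * t = t * g → g ∈ Y)
    (hfus : ∃ g, g * t * g⁻¹ ∈ P ∧ g * t * g⁻¹ ≠ t) : IsSimpleGroup X := by
  have hnt : Nontrivial X := ⟨⟨t, 1, L.z_ne⟩⟩
  have : Fact (Nat.Prime 2) := ⟨Nat.prime_two⟩
  refine ⟨fun Y hY => ?_⟩
  by_cases hne : Y = ⊥
  · exact Or.inl hne
  right
  have htY := LThreeMB.Simp.t_mem L hfus hY hne
  have hCY := hC Y hY htY
  have hPY : P ≤ Y := fun p hp => hCY p (L.comm_z p hp)
  -- a Sylow 2-subgroup of `Y` containing `P`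
  have hP2 : IsPGroup 2 ↥(P.subgroupOf Y) :=
    (isPGroup L).of_injective (Subgroup.subgroupOfEquivOfLe hPY).toMonoidHom (Subgroup.subgroupOfEquivOfLe hPY).injective
  obtain ⟨S, hS⟩ := hP2.exists_le_sylow
  let S' : Subgroup X := (S : Subgroup ↥Y).map Y.subtype
  have hPS : P ≤ S' := by
    intro p hp
    exact ⟨⟨p, hPY hp⟩, hS (Subgroup.mem_subgroupOf.2 hp), rfl⟩
  have hS'2 : IsPGroup 2 ↥S' := S.isPGroup'.map _
  -- the centre of `S'` is `⟨t⟩`
  have hcen : ∀ s ∈ S', (∀ y ∈ S', s * y = y * s) → s = 1 ∨ s = t := by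
    intro s hs hsc
    have h1 : s ∈ P := L.self s (hsc t (hPS L.z_mem)) fun p hp => hsc p (hPS hp)
    exact L.cent s h1 fun y hy => hsc y (hPS hy)
  have hSt : ∀ s ∈ S', s * t = t * s := by
    have hnt' : Nontrivial ↥S' := ⟨⟨⟨t, hPS L.z_mem⟩, 1, fun h => L.z_ne (congrArg Subtype.val h)⟩⟩
    have h1 := hS'2.center_nontrivial
    obtain ⟨⟨c, hc⟩, hc1⟩ := exists_ne (1 : ↥(Subgroup.center ↥S'))
    have h2 : ∀ y ∈ S', (c : X) * y = y * c := fun y hy =>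
      (congrArg Subtype.val (Subgroup.mem_center_iff.1 hc ⟨y, hy⟩)).symm
    rcases hcen c c.2 h2 with h3 | h3
    · exfalso
      apply hc1
      exact Subtype.ext (Subtype.ext h3)
    · intro s hs
      rw [← h3]
      exact (h2 s hs).symm
  -- the normalizer of `S'` lies in `C(t)`
  have hnor : ∀ g ∈ Subgroup.normalizer (S' : Set X), g * t = t * g := by
    intro g hg
    have h1 : g * t * g⁻¹ ∈ S' := (Subgroup.mem_normalizer_iff.1 hg t).1 (hPS L.z_mem)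
    have h2 : ∀ y ∈ S', g * t * g⁻¹ * y = y * (g * t * g⁻¹) := by
      intro y hy
      have h3 : g⁻¹ * y * g ∈ S' := by
        have h4 := (Subgroup.mem_normalizer_iff.1 hg (g⁻¹ * y * g)).2 (by
          have e : g * (g⁻¹ * y * g) * g⁻¹ = y := by group
          rwa [e])
        exact h4
      have h4 := hSt _ h3
      calc g * t * g⁻¹ * y = g * (t * (g⁻¹ * y * g)) * g⁻¹ := by group
        _ = g * ((g⁻¹ * y * g) * t) * g⁻¹ := by rw [h4]
        _ = y * (g * t * g⁻¹) := by group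
    rcases hcen _ h1 h2 with h3 | h3
    · exfalso
      apply L.z_ne
      calc t = g⁻¹ * (g * t * g⁻¹) * g := by group
        _ = 1 := by rw [h3]; group
    · exact mul_inv_eq_iff_eq_mul.1 h3
  have hfrat : Subgroup.normalizer (S' : Set X) ⊔ Y = ⊤ := Sylow.normalizer_sup_eq_top S
  rw [eq_top_iff, ← hfrat]
  exact sup_le (fun g hg => hCY g (hnor g hg)) le_rfl

end Cfsg.Agent.H244.LargeSimple
end

-- part: H244/G2/Cfg
section
/-!
# The configuration of S2917 (helper244)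

`C(z)` has the normal subgroups `L₁, L₂ ≅ SL(2,3)` with `L₁ ∩ L₂ = ⟨z⟩`, `[C(z) : L₁L₂] = 2`; `V ∋ z` is elementary
abelian of order 8, and `M` induces `Aut(V)`.
-/

set_option autoImplicit false
set_option linter.unusedSectionVars false

namespace Cfsg.Agent.H244.G2

open Subgroup Cfsg.Agent.LFourR.QThreeSL Cfsg.Agent.LFourR.QThree Cfsg.Agent.StdL2.G23Aut
open Cfsg.Agent.LargeExtra.W2 Cfsg.Agent.Co2Type.Quad

variable {G : Type*} [Group G]

/-- the configuration -/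
structure Cfg (z : G) (L₁ L₂ M V : Subgroup G) (i j x k l y : G) : Prop where
  t₁ : TG L₁ i j x
  t₂ : TG L₂ k l y
  z₁ : i * i = z
  z₂ : k * k = z
  inf : ∀ g, g ∈ L₁ → g ∈ L₂ → g = 1 ∨ g = z
  norm : ∀ g, g * z = z * g → (∀ x ∈ L₁, g * x * g⁻¹ ∈ L₁) ∧ ∀ x ∈ L₂, g * x * g⁻¹ ∈ L₂
  comm : ∀ x ∈ L₁, ∀ y ∈ L₂, x * y = y * x
  idx : ∀ g h, g * z = z * g → h * z = z * h → g ∉ L₁ ⊔ L₂ → h ∉ L₁ ⊔ L₂ → g * h ∈ L₁ ⊔ L₂
  oct : Oct V
  zV : z ∈ V
  full : Full M V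

namespace Cfg

variable [Finite G] {z : G} {L₁ L₂ M V : Subgroup G} {i j x k l y : G}

theorem ne (h : Cfg z L₁ L₂ M V i j x k l y) : z ≠ 1 := h.z₁ ▸ h.t₁.ne

theorem zz (h : Cfg z L₁ L₂ M V i j x k l y) : z * z = 1 := h.z₁ ▸ h.t₁.i4

theorem symm (h : Cfg z L₁ L₂ M V i j x k l y) : Cfg z L₂ L₁ M V k l y i j x where
  t₁ := h.t₂
  t₂ := h.t₁
  z₁ := h.z₂
  z₂ := h.z₁
  inf g h1 h2 := h.inf g h2 h1
  norm g hg := ⟨(h.norm g hg).2, (h.norm g hg).1⟩
  comm a ha b hb := (h.comm b hb a ha).symm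
  idx := by rw [sup_comm]; exact h.idx
  oct := h.oct
  zV := h.zV
  full := h.full

theorem zi (h : Cfg z L₁ L₂ M V i j x k l y) : z⁻¹ = z := inv_eq_of_mul_eq_one_left h.zz

theorem mz₁ (h : Cfg z L₁ L₂ M V i j x k l y) : z ∈ L₁ := h.z₁ ▸ L₁.mul_mem h.t₁.hi h.t₁.hi

theorem mz₂ (h : Cfg z L₁ L₂ M V i j x k l y) : z ∈ L₂ := h.z₂ ▸ L₂.mul_mem h.t₂.hi h.t₂.hi

theorem cz₁ (h : Cfg z L₁ L₂ M V i j x k l y) {g : G} (hg : g ∈ L₁) : g * z = z * g := h.comm g hg z h.mz₂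

theorem cz₂ (h : Cfg z L₁ L₂ M V i j x k l y) {g : G} (hg : g ∈ L₂) : g * z = z * g := (h.comm z h.mz₁ g hg).symm

theorem mem_sup (h : Cfg z L₁ L₂ M V i j x k l y) {g : G} :
    g ∈ L₁ ⊔ L₂ ↔ ∃ u ∈ L₁, ∃ v ∈ L₂, g = u * v := by
  constructor
  · intro hg
    let K : Subgroup G :=
      { carrier := {g | ∃ u ∈ L₁, ∃ v ∈ L₂, g = u * v}
        one_mem' := ⟨1, L₁.one_mem, 1, L₂.one_mem, by simp⟩
        mul_mem' := by
          rintro _ _ ⟨u, hu, v, hv, rfl⟩ ⟨u', hu', v', hv', rfl⟩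
          refine ⟨u * u', L₁.mul_mem hu hu', v * v', L₂.mul_mem hv hv', ?_⟩
          calc u * v * (u' * v') = u * (v * u') * v' := by group
            _ = u * (u' * v) * v' := by rw [h.comm u' hu' v hv]
            _ = _ := by group
        inv_mem' := by
          rintro _ ⟨u, hu, v, hv, rfl⟩
          refine ⟨u⁻¹, L₁.inv_mem hu, v⁻¹, L₂.inv_mem hv, ?_⟩
          rw [h.comm u hu v hv, mul_inv_rev] }
    have hle : L₁ ⊔ L₂ ≤ K := sup_le (fun u hu => ⟨u, hu, 1, L₂.one_mem, by simp⟩)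
      (fun v hv => ⟨1, L₁.one_mem, v, hv, by simp⟩)
    exact hle hg
  · rintro ⟨u, hu, v, hv, rfl⟩
    exact mul_mem (mem_sup_left hu) (mem_sup_right hv)

theorem cz (h : Cfg z L₁ L₂ M V i j x k l y) {g : G} (hg : g ∈ L₁ ⊔ L₂) : g * z = z * g := by
  obtain ⟨u, hu, v, hv, rfl⟩ := h.mem_sup.1 hg
  have c1 : Commute u z := h.cz₁ hu
  have c2 : Commute v z := h.cz₂ hv
  exact c1.mul_left c2

theorem normK (h : Cfg z L₁ L₂ M V i j x k l y) {c : G} (hc : c * z = z * c) {g : G} (hg : g ∈ L₁ ⊔ L₂) :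
    c * g * c⁻¹ ∈ L₁ ⊔ L₂ := by
  obtain ⟨u, hu, v, hv, rfl⟩ := h.mem_sup.1 hg
  have e : c * (u * v) * c⁻¹ = (c * u * c⁻¹) * (c * v * c⁻¹) := by group
  rw [e]
  exact mul_mem (mem_sup_left ((h.norm c hc).1 u hu)) (mem_sup_right ((h.norm c hc).2 v hv))

theorem cV (h : Cfg z L₁ L₂ M V i j x k l y) {v : G} (hv : v ∈ V) : v * z = z * v := h.oct.comm hv h.zV

/-- `M ∩ C(z)` is transitive on `V ∖ ⟨z⟩` -/
theorem trans (h : Cfg z L₁ L₂ M V i j x k l y) {a b : G} (ha : a ∈ V) (ha1 : a ≠ 1) (haz : a ≠ z)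
    (hb : b ∈ V) (hb1 : b ≠ 1) (hbz : b ≠ z) : ∃ m ∈ M, m * z = z * m ∧ m * a * m⁻¹ = b := by
  obtain ⟨a', A⟩ := h.oct.exists_bas' h.zV h.ne ha ha1 haz
  obtain ⟨b', B⟩ := h.oct.exists_bas' h.zV h.ne hb hb1 hbz
  obtain ⟨m, hm, -, h1, h2, -⟩ := h.full.bas h.oct A B
  exact ⟨m, hm, mul_inv_eq_iff_eq_mul.1 h1, h2⟩

theorem V_le (h : Cfg z L₁ L₂ M V i j x k l y) : V ≤ L₁ ⊔ L₂ := by
  intro v hv
  by_contra hvK
  have hv1 : v ≠ 1 := fun e => hvK (e ▸ one_mem _)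
  have hvz : v ≠ z := fun e => hvK (e ▸ mem_sup_left h.mz₁)
  obtain ⟨w, B⟩ := h.oct.exists_bas' h.zV h.ne hv hv1 hvz
  have key : ∀ a ∈ V, a ≠ 1 → a ≠ z → a ∈ L₁ ⊔ L₂ → False := by
    intro a ha ha1 haz haK
    obtain ⟨m, -, hmz, hm⟩ := h.trans ha ha1 haz hv hv1 hvz
    exact hvK (hm ▸ h.normK hmz haK)
  by_cases hw : w ∈ L₁ ⊔ L₂
  · exact key w B.hw B.w1 B.wx hw
  · refine key (v * w) (V.mul_mem hv B.hw) ?_ ?_ (h.idx v w (h.cV hv) (h.cV B.hw) hvK hw)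
    · intro e
      exact B.wy (h.oct.eq_of_mul B.hw e).symm
    · intro e
      apply B.wxy
      rw [← e, h.oct.comm hv B.hw, mul_assoc, h.oct.sq v hv, mul_one]

/-- elements of `V ∖ ⟨z⟩` -/
theorem exists_uv (h : Cfg z L₁ L₂ M V i j x k l y) {v : G} (hv : v ∈ V) (h1 : v ≠ 1) (h2 : v ≠ z) :
    ∃ u ∈ L₁, ∃ w ∈ L₂, v = u * w ∧ u * u = z ∧ w * w = z := by
  obtain ⟨u, hu, w, hw, rfl⟩ := h.mem_sup.1 (h.V_le hv)
  have hc := h.comm u hu w hw
  have hsq := h.oct.sq _ hv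
  have e : (u * u) * (w * w) = 1 := by
    calc (u * u) * (w * w) = u * (u * w) * w := by group
      _ = u * (w * u) * w := by rw [hc]
      _ = u * w * (u * w) := by group
      _ = 1 := hsq
  have e' : u * u = (w * w)⁻¹ := eq_inv_of_mul_eq_one_left e
  have hz := h.inf (u * u) (L₁.mul_mem hu hu) (by rw [e']; exact L₂.inv_mem (L₂.mul_mem hw hw))
  refine ⟨u, hu, w, hw, rfl, ?_⟩
  rcases hz with hz | hz
  · exfalso
    rw [hz, one_mul] at e
    have r1 := h.t₁.sq1 hu hz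
    have r2 := h.t₂.sq1 hw e
    rw [h.z₁] at r1
    rw [h.z₂] at r2
    rcases r1 with r1 | r1 <;> rcases r2 with r2 | r2
    · exact h1 (by rw [r1, r2, mul_one])
    · exact h2 (by rw [r1, r2, one_mul])
    · exact h2 (by rw [r1, r2, mul_one])
    · exact h1 (by rw [r1, r2, h.zz])
  · refine ⟨hz, ?_⟩
    rw [hz] at e
    rw [← h.zi]
    exact (inv_eq_of_mul_eq_one_right e).symm

/-- coordinates of a basis `z, a, b` of `V` -/
structure UV (z : G) (L₁ L₂ V : Subgroup G) (a b u w u' w' : G) : Prop where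
  bas : Bas V z a b
  hu : u ∈ L₁
  hw : w ∈ L₂
  hu' : u' ∈ L₁
  hw' : w' ∈ L₂
  a_eq : a = u * w
  b_eq : b = u' * w'
  uu : u * u = z
  ww : w * w = z
  uu' : u' * u' = z
  ww' : w' * w' = z
  ne1 : u ≠ u'
  ne2 : u ≠ u' * z
  ne3 : w ≠ w'
  ne4 : w ≠ w' * z

theorem exists_UV (h : Cfg z L₁ L₂ M V i j x k l y) : ∃ a b u w u' w', UV z L₁ L₂ V a b u w u' w' := by
  obtain ⟨a, b, B⟩ := h.oct.exists_bas h.zV h.ne
  obtain ⟨u, hu, w, hw, ea, huu, hww⟩ := h.exists_uv B.hy B.y1 B.yx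
  obtain ⟨u', hu', w', hw', eb, huu', hww'⟩ := h.exists_uv B.hw B.w1 B.wx
  have hab : (a * b) * (a * b) = 1 := h.oct.sq _ (V.mul_mem B.hy B.hw)
  have hne : ∀ c : G, a * b = c → (c = 1 ∨ c = z) → False := by
    rintro _ rfl (e | e)
    · exact B.wy (h.oct.eq_of_mul B.hw e).symm
    · apply B.wxy
      rw [← e, h.oct.comm B.hy B.hw, mul_assoc, h.oct.sq a B.hy, mul_one]
  -- if `u u' ∈ ⟨z⟩` then `a b ∈ L₂`
  have e1 : a * b = (u * u') * (w * w') := by
    rw [ea, eb]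
    calc u * w * (u' * w') = u * (w * u') * w' := by group
      _ = u * (u' * w) * w' := by rw [h.comm u' hu' w hw]
      _ = _ := by group
  have k1 : u * u' = 1 ∨ u * u' = z → False := by
    intro hc
    have hm : a * b ∈ L₂ := by
      rw [e1]
      refine L₂.mul_mem ?_ (L₂.mul_mem hw hw')
      rcases hc with hc | hc
      · rw [hc]; exact one_mem _
      · rw [hc]; exact h.mz₂
    have := h.t₂.sq1 hm hab
    rw [h.z₂] at this
    exact hne _ rfl this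
  have k2 : w * w' = 1 ∨ w * w' = z → False := by
    intro hc
    have hm : a * b ∈ L₁ := by
      rw [e1]
      refine L₁.mul_mem (L₁.mul_mem hu hu') ?_
      rcases hc with hc | hc
      · rw [hc]; exact one_mem _
      · rw [hc]; exact h.mz₁
    have := h.t₁.sq1 hm hab
    rw [h.z₁] at this
    exact hne _ rfl this
  refine ⟨a, b, u, w, u', w', B, hu, hw, hu', hw', ea, eb, huu, hww, huu', hww', ?_, ?_, ?_, ?_⟩
  · intro e; exact k1 (Or.inr (by rw [e, huu']))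
  · intro e; exact k1 (Or.inl (by rw [e, mul_assoc, ← h.cz₁ hu', ← mul_assoc, huu', h.zz]))
  · intro e; exact k2 (Or.inr (by rw [e, hww']))
  · intro e; exact k2 (Or.inl (by rw [e, mul_assoc, ← h.cz₂ hw', ← mul_assoc, hww', h.zz]))

/-- an element of `C(z)` moving `a` to `b` moves `u` to `u'` up to `z` -/
theorem UV.act (h : Cfg z L₁ L₂ M V i j x k l y) {u w u' w' : G} (hu : u ∈ L₁) (hw : w ∈ L₂) (hu' : u' ∈ L₁)
    (hw' : w' ∈ L₂) {c : G} (hc : c * z = z * c) (he : c * (u * w) * c⁻¹ = u' * w') :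
    (c * u * c⁻¹ = u' ∨ c * u * c⁻¹ = u' * z) ∧ (c * w * c⁻¹ = w' ∨ c * w * c⁻¹ = w' * z) := by
  have m1 := (h.norm c hc).1 u hu
  have m2 := (h.norm c hc).2 w hw
  have e1 : (c * u * c⁻¹) * (c * w * c⁻¹) = u' * w' := by rw [← he]; group
  have e2 : u'⁻¹ * (c * u * c⁻¹) = w' * (c * w * c⁻¹)⁻¹ := by
    rw [inv_mul_eq_iff_eq_mul, ← mul_assoc, eq_mul_inv_iff_mul_eq]
    exact e1
  have e3 := h.inf _ (L₁.mul_mem (L₁.inv_mem hu') m1) (by rw [e2]; exact L₂.mul_mem hw' (L₂.inv_mem m2))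
  constructor
  · rcases e3 with e3 | e3
    · left; exact (inv_mul_eq_one.1 e3).symm
    · right; exact inv_mul_eq_iff_eq_mul.1 e3
  · rw [e2] at e3
    rcases e3 with e3 | e3
    · left; exact (mul_inv_eq_one.1 e3).symm
    · right
      have e4 : w' = z * (c * w * c⁻¹) := mul_inv_eq_iff_eq_mul.1 e3
      rw [e4, ← h.cz₂ m2]
      rw [mul_assoc _ z z, h.zz, mul_one]

/-- an element of `C(z)` swapping `a` and `b` -/
structure Sw (z a b c : G) : Prop where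
  cz : c * z = z * c
  ab : c * a * c⁻¹ = b
  ba : c * b * c⁻¹ = a

/-- no element of `L₁ C(L₁)` swaps `a` and `b` -/
theorem UV.noswap₁ (h : Cfg z L₁ L₂ M V i j x k l y) {a b u w u' w' : G} (U : UV z L₁ L₂ V a b u w u' w')
    {c : G} (S : Sw z a b c) {g : G} (hg : g ∈ L₁) (hgc : ∀ v ∈ L₁, c * v * c⁻¹ = g * v * g⁻¹) : False := by
  have h1 := (UV.act h U.hu U.hw U.hu' U.hw' S.cz (by rw [← U.a_eq, ← U.b_eq]; exact S.ab)).1
  have h2 := (UV.act h U.hu' U.hw' U.hu U.hw S.cz (by rw [← U.a_eq, ← U.b_eq]; exact S.ba)).1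
  rw [hgc _ U.hu] at h1
  rw [hgc _ U.hu'] at h2
  refine h.t₁.noswap hg U.hu U.hu' (U.uu.trans h.z₁.symm) (U.uu'.trans h.z₁.symm) U.ne1 ?_ ?_ ?_
  · rw [h.z₁]; exact U.ne2
  · rw [h.z₁]; exact h1
  · rw [h.z₁]; exact h2

theorem UV.symm (h : Cfg z L₁ L₂ M V i j x k l y) {a b u w u' w' : G} (U : UV z L₁ L₂ V a b u w u' w') :
    UV z L₂ L₁ V a b w u w' u' where
  bas := U.bas
  hu := U.hw
  hw := U.hu
  hu' := U.hw'
  hw' := U.hu'
  a_eq := U.a_eq.trans (h.comm _ U.hu _ U.hw)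
  b_eq := U.b_eq.trans (h.comm _ U.hu' _ U.hw')
  uu := U.ww
  ww := U.uu
  uu' := U.ww'
  ww' := U.uu'
  ne1 := U.ne3
  ne2 := U.ne4
  ne3 := U.ne1
  ne4 := U.ne2

/-- a swapping element is outside `L₁ L₂` -/
theorem UV.not_mem (h : Cfg z L₁ L₂ M V i j x k l y) {a b u w u' w' : G} (U : UV z L₁ L₂ V a b u w u' w')
    {c : G} (S : Sw z a b c) : c ∉ L₁ ⊔ L₂ := by
  intro hc
  obtain ⟨g, hg, g', hg', rfl⟩ := h.mem_sup.1 hc
  refine U.noswap₁ h S hg fun v hv => ?_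
  have := h.comm v hv g' hg'
  calc g * g' * v * (g * g')⁻¹ = g * (g' * v) * g'⁻¹ * g⁻¹ := by group
    _ = g * (v * g') * g'⁻¹ * g⁻¹ := by rw [this]
    _ = _ := by group

theorem exists_sw (h : Cfg z L₁ L₂ M V i j x k l y) {a b u w u' w' : G} (U : UV z L₁ L₂ V a b u w u' w')
    {N : Subgroup G} (hN : Full N V) : ∃ m ∈ N, Sw z a b m := by
  obtain ⟨m, hm, -, h1, h2, h3⟩ := hN.bas h.oct U.bas (U.bas.swap23 h.oct)
  exact ⟨m, hm, mul_inv_eq_iff_eq_mul.1 h1, h2, h3⟩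

/-- `C(z) ∩ C(L₁L₂) = ⟨z⟩` -/
theorem cent (h : Cfg z L₁ L₂ M V i j x k l y) {c : G} (hc : c * z = z * c)
    (h1 : ∀ x ∈ L₁, c * x = x * c) (h2 : ∀ x ∈ L₂, c * x = x * c) : c = 1 ∨ c = z := by
  by_cases hK : c ∈ L₁ ⊔ L₂
  · obtain ⟨g, hg, g', hg', rfl⟩ := h.mem_sup.1 hK
    have k1 : ∀ v ∈ L₁, g * v = v * g := by
      intro v hv
      have e := h1 v hv
      have e' := h.comm v hv g' hg'
      have : (g * v) * g' = (v * g) * g' := by
        calc (g * v) * g' = g * (v * g') := by group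
          _ = g * g' * v := by rw [e']; group
          _ = _ := by rw [e]; group
      exact mul_right_cancel this
    have k2 : ∀ v ∈ L₂, g' * v = v * g' := by
      intro v hv
      have e := h2 v hv
      have e' := h.comm g hg v hv
      have : g * (g' * v) = g * (v * g') := by
        calc g * (g' * v) = g * g' * v := by group
          _ = v * g * g' := by rw [e]; group
          _ = _ := by rw [← e']; group
      exact mul_left_cancel this
    have r1 := h.t₁.cen hg (k1 i h.t₁.hi) (k1 j h.t₁.hj)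
    have r2 := h.t₂.cen hg' (k2 k h.t₂.hi) (k2 l h.t₂.hj)
    rw [h.z₁] at r1
    rw [h.z₂] at r2
    rcases r1 with r1 | r1 <;> rcases r2 with r2 | r2
    · left; rw [r1, r2, mul_one]
    · right; rw [r1, r2, one_mul]
    · right; rw [r1, r2, mul_one]
    · left; rw [r1, r2, h.zz]
  · exfalso
    obtain ⟨a, b, u, w, u', w', U⟩ := h.exists_UV
    obtain ⟨m, -, S⟩ := h.exists_sw U h.full
    have hmK := U.not_mem h S
    have hcm := h.idx c m hc S.cz hK hmK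
    obtain ⟨g, hg, g', hg', e⟩ := h.mem_sup.1 hcm
    refine U.noswap₁ h S hg fun v hv => ?_
    have e1 := h.comm v hv g' hg'
    have e2 : m = c⁻¹ * (g * g') := by rw [← e]; group
    have e3 : g' * v * g'⁻¹ = v := by rw [← e1]; group
    have hgv : g * v * g⁻¹ ∈ L₁ := L₁.mul_mem (L₁.mul_mem hg hv) (L₁.inv_mem hg)
    have e4 : c⁻¹ * (g * v * g⁻¹) * c = g * v * g⁻¹ := by
      rw [mul_assoc, ← h1 _ hgv]; group
    calc m * v * m⁻¹ = c⁻¹ * (g * (g' * v * g'⁻¹) * g⁻¹) * c := by rw [e2]; group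
      _ = g * v * g⁻¹ := by rw [e3, e4]

/-- the ambient data of `LFourR.QThree` -/
theorem amb (h : Cfg z L₁ L₂ M V i j x k l y) : Amb z L₁ L₂ where
  zz := h.zz
  z_ne := h.ne
  z₁ := h.mz₁
  z₂ := h.mz₂
  comm := h.comm
  inf := h.inf
  norm g hg := Or.inl (h.norm g hg)
  cent _ hg h1 h2 := h.cent hg h1 h2

/-- adjust a swapping element by an element of `L₁` -/
theorem adj (h : Cfg z L₁ L₂ M V i j x k l y) {a b u w u' w' : G} (U : UV z L₁ L₂ V a b u w u' w')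
    {c : G} (S : Sw z a b c) : ∃ g ∈ L₁, (g * c) * i * (g * c)⁻¹ = j * z ∧ (g * c) * x * (g * c)⁻¹ = x⁻¹ := by
  have hn := (h.norm c S.cz).1
  have x1 : x ≠ 1 := by
    intro e
    have h0 := h.t₁.xi
    rw [e] at h0
    have e2 : i = j := by simpa using h0
    have e3 := h.t₁.ji
    rw [← e2] at e3
    have e4 : i * i = 1 := by
      have e5 : i * i * 1 = i * i * (i * i) := by rw [mul_one]; exact e3
      exact (mul_left_cancel e5).symm
    exact h.t₁.ne e4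
  obtain ⟨g, hg, hh⟩ := h.t₁.aut (u := c * i * c⁻¹) (w := c * x * c⁻¹) (hn i h.t₁.hi) (hn x h.t₁.hx)
    (by
      calc (c * i * c⁻¹) * (c * i * c⁻¹) = c * (i * i) * c⁻¹ := by group
        _ = i * i := by rw [h.z₁, S.cz]; group)
    (by rw [conj_pow, h.t₁.x3, mul_one, mul_inv_cancel])
    (by
      intro e
      apply x1
      calc x = c⁻¹ * (c * x * c⁻¹) * c := by group
        _ = 1 := by rw [e]; group)
    (by
      have e1 : c * x * c⁻¹ * (c * i * c⁻¹) * (c * x * c⁻¹)⁻¹ = c * j * c⁻¹ := by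
        rw [← h.t₁.xi]; group
      rw [e1]
      calc c * x * c⁻¹ * (c * j * c⁻¹) * (c * x * c⁻¹)⁻¹ = c * (x * j * x⁻¹) * c⁻¹ := by group
        _ = c * i * c⁻¹ * (c * j * c⁻¹) := by rw [h.t₁.xj]; group)
  have e0 : ∀ v : G, (g * c) * v * (g * c)⁻¹ = g * (c * v * c⁻¹) * g⁻¹ := fun v => by group
  rcases hh with ⟨h1, h2⟩ | ⟨h1, h2⟩
  · exfalso
    rw [← e0] at h1 h2
    have c1 : Commute (g * c) i := mul_inv_eq_iff_eq_mul.1 h1
    have c2 : Commute (g * c) x := mul_inv_eq_iff_eq_mul.1 h2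
    have c3 : Commute (g * c) j := by
      rw [← h.t₁.xi]
      exact (c2.mul_right c1).mul_right c2.inv_right
    refine U.noswap₁ h S (L₁.inv_mem hg) fun v hv => ?_
    obtain ⟨p, q, r, rfl⟩ := h.t₁.gen hv
    have c4 : Commute (g * c) (i ^ (p : ℕ) * j ^ (q : ℕ) * x ^ (r : ℕ)) :=
      ((c1.pow_right _).mul_right (c3.pow_right _)).mul_right (c2.pow_right _)
    generalize i ^ (p : ℕ) * j ^ (q : ℕ) * x ^ (r : ℕ) = v at c4 ⊢
    have e1 : g * c * v * (g * c)⁻¹ = v := mul_inv_eq_iff_eq_mul.2 c4.eq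
    calc c * v * c⁻¹ = g⁻¹ * (g * c * v * (g * c)⁻¹) * g := by group
      _ = g⁻¹ * v * g⁻¹⁻¹ := by rw [e1, inv_inv]
  · refine ⟨g, hg, ?_, ?_⟩
    · rw [e0, h1, h.z₁]
    · rw [e0, h2]

/-- the outer element `y` -/
theorem exists_y (h : Cfg z L₁ L₂ M V i j x k l y) {a b u w u' w' : G} (U : UV z L₁ L₂ V a b u w u' w')
    {c : G} (S : Sw z a b c) : ∃ g₁ ∈ L₁, ∃ g₂ ∈ L₂, ∃ s, s = g₂ * (g₁ * c) ∧ s * z = z * s ∧
      s * i * s⁻¹ = j * z ∧ s * j * s⁻¹ = i * z ∧ s * x * s⁻¹ = x⁻¹ ∧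
      s * k * s⁻¹ = l * z ∧ s * l * s⁻¹ = k * z ∧ s * y * s⁻¹ = y⁻¹ := by
  obtain ⟨g₁, hg₁, h1, h2⟩ := h.adj U S
  obtain ⟨g₂, hg₂, h3, h4⟩ := h.symm.adj (U.symm h) S
  have hc := h.comm g₁ hg₁ g₂ hg₂
  have e1 : g₂ * (g₁ * c) = g₁ * (g₂ * c) := by rw [← mul_assoc, ← hc, mul_assoc]
  -- conjugation by `s` on `L₁` and `L₂`
  have k1 : ∀ v v' : G, (g₁ * c) * v * (g₁ * c)⁻¹ = v' → v' ∈ L₁ →
      g₂ * (g₁ * c) * v * (g₂ * (g₁ * c))⁻¹ = v' := by
    intro v v' e hv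
    have := h.comm v' hv g₂ hg₂
    calc g₂ * (g₁ * c) * v * (g₂ * (g₁ * c))⁻¹ = g₂ * ((g₁ * c) * v * (g₁ * c)⁻¹) * g₂⁻¹ := by group
      _ = v' := by rw [e, ← this]; group
  have k2 : ∀ v v' : G, (g₂ * c) * v * (g₂ * c)⁻¹ = v' → v' ∈ L₂ →
      g₂ * (g₁ * c) * v * (g₂ * (g₁ * c))⁻¹ = v' := by
    intro v v' e hv
    have := h.comm g₁ hg₁ v' hv
    rw [e1]
    calc g₁ * (g₂ * c) * v * (g₁ * (g₂ * c))⁻¹ = g₁ * ((g₂ * c) * v * (g₂ * c)⁻¹) * g₁⁻¹ := by group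
      _ = v' := by rw [e, this]; group
  have hsz : (g₂ * (g₁ * c)) * z = z * (g₂ * (g₁ * c)) := by
    have c1 : Commute g₂ z := h.cz₂ hg₂
    have c2 : Commute g₁ z := h.cz₁ hg₁
    have c3 : Commute c z := S.cz
    exact c1.mul_left (c2.mul_left c3)
  obtain ⟨s, hs⟩ : ∃ s, s = g₂ * (g₁ * c) := ⟨_, rfl⟩
  rw [← hs] at k1 k2 hsz
  have a1 := k1 _ _ h1 (L₁.mul_mem h.t₁.hj h.mz₁)
  have a2 := k1 _ _ h2 (L₁.inv_mem h.t₁.hx)
  have a3 := k2 _ _ h3 (L₂.mul_mem h.t₂.hj h.mz₂)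
  have a4 := k2 _ _ h4 (L₂.inv_mem h.t₂.hx)
  -- the image of `j`
  have key : ∀ i j x : G, s * i * s⁻¹ = j * z → s * x * s⁻¹ = x⁻¹ → x * i * x⁻¹ = j → x * z = z * x →
      s * j * s⁻¹ = i * z := by
    intro i j x h1 h2 h3 h4
    calc s * j * s⁻¹ = (s * x * s⁻¹) * (s * i * s⁻¹) * (s * x * s⁻¹)⁻¹ := by rw [← h3]; group
      _ = x⁻¹ * j * (z * x) := by rw [h1, h2]; group
      _ = x⁻¹ * j * x * z := by rw [← h4]; group
      _ = i * z := by rw [← h3]; group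
  exact ⟨g₁, hg₁, g₂, hg₂, s, hs, hsz, a1, key _ _ _ a1 a2 h.t₁.xi (h.cz₁ h.t₁.hx), a2, a3,
    key _ _ _ a3 a4 h.t₂.xi (h.cz₂ h.t₂.hx), a4⟩

/-- index two -/
theorem mem_of (h : Cfg z L₁ L₂ M V i j x k l y) {s g : G} (hsz : s * z = z * s) (hs : s ∉ L₁ ⊔ L₂)
    (hg : g * z = z * g) (hgK : g ∉ L₁ ⊔ L₂) : s⁻¹ * g ∈ L₁ ⊔ L₂ := by
  refine h.idx s⁻¹ g ?_ hg (fun e => hs (by simpa using inv_mem e)) hgK
  have c1 : Commute s z := hsz
  exact c1.inv_left.eq

/-- **`Case9c`** -/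
theorem case9c (h : Cfg z L₁ L₂ M V i j x k l y) (hcard : Nat.card (centralizer ({z} : Set G)) = 576) :
    ∃ s, Case9c (h.amb.Q h.t₁.toTetG h.t₂.toTetG) z i j k l x y s := by
  obtain ⟨a, b, u, w, u', w', U⟩ := h.exists_UV
  obtain ⟨m, -, S⟩ := h.exists_sw U h.full
  obtain ⟨g₁, hg₁, g₂, hg₂, s, hs, hsz, e1, e2, e3, e4, e5, e6⟩ := h.exists_y U S
  have hmK := U.not_mem h S
  have hsK : s ∉ L₁ ⊔ L₂ := by
    intro e
    apply hmK
    have : m = g₁⁻¹ * (g₂⁻¹ * s) := by rw [hs]; group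
    rw [this]
    exact mul_mem (inv_mem (mem_sup_left hg₁)) (mul_mem (inv_mem (mem_sup_right hg₂)) e)
  refine ⟨s, { h.amb.plus h.t₁.toTetG h.t₂.toTetG with
    x₁3 := h.t₁.x3
    x₂3 := h.t₂.x3
    x₁_act := ?_
    x₂_act := ?_
    y_act := ?_
    xx := h.comm x h.t₁.hx y h.t₂.hx
    y1 := e3
    y2 := e6
    yy := ?_
    cent := ?_
    card_cent := hcard }⟩
  · refine ⟨?_, h.t₁.xi, h.t₁.xj, ?_, ?_⟩
    · rw [h.cz₁ h.t₁.hx]; group
    · rw [h.comm x h.t₁.hx k h.t₂.hi]; group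
    · rw [h.comm x h.t₁.hx l h.t₂.hj]; group
  · refine ⟨?_, ?_, ?_, h.t₂.xi, h.t₂.xj⟩
    · rw [h.cz₂ h.t₂.hx]; group
    · rw [← h.comm i h.t₁.hi y h.t₂.hx]; group
    · rw [← h.comm j h.t₁.hj y h.t₂.hx]; group
  · refine ⟨?_, e1, e2, e4, e5⟩
    rw [hsz]; group
  · have c0 : Commute s z := hsz
    have k1 : ∀ i j : G, s * i * s⁻¹ = j * z → s * j * s⁻¹ = i * z → Commute (s * s) i := by
      intro i j h1 h2
      have : s * s * i * (s * s)⁻¹ = i := by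
        calc s * s * i * (s * s)⁻¹ = s * (s * i * s⁻¹) * s⁻¹ := by group
          _ = (s * j * s⁻¹) * (s * z * s⁻¹) := by rw [h1]; group
          _ = i * z * z := by rw [h2, hsz]; group
          _ = i := by rw [mul_assoc, h.zz, mul_one]
      exact mul_inv_eq_iff_eq_mul.1 this
    have k2 : ∀ x : G, s * x * s⁻¹ = x⁻¹ → Commute (s * s) x := by
      intro x h1
      have : s * s * x * (s * s)⁻¹ = x := by
        calc s * s * x * (s * s)⁻¹ = s * (s * x * s⁻¹) * s⁻¹ := by group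
          _ = s * x⁻¹ * s⁻¹ := by rw [h1]
          _ = (s * x * s⁻¹)⁻¹ := by group
          _ = x := by rw [h1, inv_inv]
      exact mul_inv_eq_iff_eq_mul.1 this
    apply h.cent (c0.mul_left c0)
    · intro v hv
      obtain ⟨p, q, r, rfl⟩ := h.t₁.gen hv
      exact (((k1 _ _ e1 e2).pow_right _).mul_right ((k1 _ _ e2 e1).pow_right _)).mul_right
        ((k2 _ e3).pow_right _)
    · intro v hv
      obtain ⟨p, q, r, rfl⟩ := h.t₂.gen hv
      exact (((k1 _ _ e4 e5).pow_right _).mul_right ((k1 _ _ e5 e4).pow_right _)).mul_right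
        ((k2 _ e6).pow_right _)
  · set C := Subgroup.closure ({i, j, k, l, x, y, s} : Set G) with hC
    have mi : i ∈ C := subset_closure (by simp)
    have mj : j ∈ C := subset_closure (by simp)
    have mk : k ∈ C := subset_closure (by simp)
    have ml : l ∈ C := subset_closure (by simp)
    have mx : x ∈ C := subset_closure (by simp)
    have my : y ∈ C := subset_closure (by simp)
    have ms : s ∈ C := subset_closure (by simp)
    have hK : L₁ ⊔ L₂ ≤ C := by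
      apply sup_le
      · intro v hv
        obtain ⟨p, q, r, rfl⟩ := h.t₁.gen hv
        exact mul_mem (mul_mem (pow_mem mi _) (pow_mem mj _)) (pow_mem mx _)
      · intro v hv
        obtain ⟨p, q, r, rfl⟩ := h.t₂.gen hv
        exact mul_mem (mul_mem (pow_mem mk _) (pow_mem ml _)) (pow_mem my _)
    apply le_antisymm
    · intro g hg
      have hgz := mem_centralizer_singleton_iff.1 hg
      by_cases hgK : g ∈ L₁ ⊔ L₂
      · exact hK hgK
      · have := h.mem_of hsz hsK hgz hgK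
        have e : g = s * (s⁻¹ * g) := by group
        rw [e]
        exact mul_mem ms (hK this)
    · rw [hC, closure_le]
      intro g hg
      have hg' : g = i ∨ g = j ∨ g = k ∨ g = l ∨ g = x ∨ g = y ∨ g = s := by simpa using hg
      show g ∈ centralizer ({z} : Set G)
      rw [mem_centralizer_singleton_iff]
      rcases hg' with rfl | rfl | rfl | rfl | rfl | rfl | rfl
      · exact h.cz₁ h.t₁.hi
      · exact h.cz₁ h.t₁.hj
      · exact h.cz₂ h.t₂.hi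
      · exact h.cz₂ h.t₂.hj
      · exact h.cz₁ h.t₁.hx
      · exact h.cz₂ h.t₂.hx
      · exact hsz

end Cfg

end Cfsg.Agent.H244.G2
end

-- part: H244/G2/Simple
section
/-!
# Simplicity in the configuration of S2917 (helper244)
-/

set_option autoImplicit false
set_option linter.unusedSectionVars false

namespace Cfsg.Agent.H244.G2

open Subgroup Cfsg.Agent.LFourR.QThreeSL Cfsg.Agent.LFourR.QThree Cfsg.Agent.StdL2.G23Aut
open Cfsg.Agent.LargeExtra.W2 Cfsg.Agent.Co2Type.Quad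

variable {G : Type*} [Group G]

namespace Cfg

variable [Finite G] {z : G} {L₁ L₂ M V : Subgroup G} {i j x k l y : G}

theorem pow4 (h : Cfg z L₁ L₂ M V i j x k l y) {u : G} (hu : u * u = z) : u ^ 4 = 1 := by
  have : u ^ 4 = (u * u) * (u * u) := by simp only [pow_succ, pow_zero, one_mul, mul_assoc]
  rw [this, hu, h.zz]

theorem V_le_normal (h : Cfg z L₁ L₂ M V i j x k l y) {Y : Subgroup G} (hY : Y.Normal) (hz : z ∈ Y) : V ≤ Y := by
  intro v hv
  by_cases hv1 : v = 1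
  · rw [hv1]; exact one_mem _
  · obtain ⟨a, b, A⟩ := h.oct.exists_bas h.zV h.ne
    obtain ⟨a', b', B⟩ := h.oct.exists_bas hv hv1
    obtain ⟨m, -, -, e, -, -⟩ := h.full.bas h.oct A B
    rw [← e]
    exact hY.conj_mem z hz m

/-- a normal subgroup containing `z` contains `j` and `i` -/
theorem ij_mem (h : Cfg z L₁ L₂ M V i j x k l y) {Y : Subgroup G} (hY : Y.Normal) (hz : z ∈ Y) :
    i ∈ Y ∧ j ∈ Y := by
  obtain ⟨a, b, u, w, u', w', U⟩ := h.exists_UV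
  have ha := h.V_le_normal hY hz U.bas.hy
  -- `[a, x] ∈ Y ∩ L₁`
  have h1 : u⁻¹ * (x * u * x⁻¹) ∈ Y := by
    have e : a⁻¹ * (x * a * x⁻¹) ∈ Y := Y.mul_mem (Y.inv_mem ha) (hY.conj_mem a ha x)
    have e1 : x * w * x⁻¹ = w := by rw [h.comm x h.t₁.hx w U.hw]; group
    have e2 : x * a * x⁻¹ = (x * u * x⁻¹) * w := by
      rw [U.a_eq]
      calc x * (u * w) * x⁻¹ = (x * u * x⁻¹) * (x * w * x⁻¹) := by group
        _ = _ := by rw [e1]
    have hm : u⁻¹ * (x * u * x⁻¹) ∈ L₁ :=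
      L₁.mul_mem (L₁.inv_mem U.hu) (L₁.mul_mem (L₁.mul_mem h.t₁.hx U.hu) (L₁.inv_mem h.t₁.hx))
    have e3 : a⁻¹ * (x * a * x⁻¹) = u⁻¹ * (x * u * x⁻¹) := by
      rw [e2, U.a_eq]
      calc (u * w)⁻¹ * (x * u * x⁻¹ * w) = w⁻¹ * ((u⁻¹ * (x * u * x⁻¹)) * w) := by group
        _ = _ := by rw [h.comm _ hm w U.hw]; group
    rwa [e3] at e
  obtain ⟨g, -, hg⟩ := h.t₁.cg U.hu (U.uu.trans h.z₁.symm)
  have hi : i ∈ Y := by
    rw [hg]; exact hY.conj_mem _ h1 g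
  refine ⟨hi, ?_⟩
  rw [← h.t₁.xi]
  exact hY.conj_mem _ hi x

/-- a normal subgroup containing `z` induces `Aut(V)` on `V` -/
theorem full_of_normal (h : Cfg z L₁ L₂ M V i j x k l y) {Y : Subgroup G} (hY : Y.Normal) (hz : z ∈ Y) :
    Full Y V := by
  have hX : (img Y V).Normal := by
    refine ⟨fun φ hφ ψ => ?_⟩
    obtain ⟨k, hk, hkn, hkv⟩ := mem_img.1 hφ
    obtain ⟨m, hm, hmv⟩ := h.full ψ
    have hmn : m ∈ normalizer (V : Set G) := by
      rw [mem_normalizer_iff]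
      intro g
      constructor
      · intro hg
        rw [hmv ⟨g, hg⟩]
        exact (ψ ⟨g, hg⟩).2
      · intro hg
        have h4 := hmv (ψ.symm ⟨_, hg⟩)
        rw [MulEquiv.apply_symm_apply] at h4
        have h5 : ((ψ.symm ⟨_, hg⟩ : V) : G) = g := mul_left_cancel (mul_right_cancel h4)
        rw [← h5]
        exact (ψ.symm ⟨_, hg⟩).2
    refine mem_img.2 ⟨m * k * m⁻¹, hY.conj_mem k hk m, mul_mem (mul_mem hmn hkn) (inv_mem hmn), fun v => ?_⟩
    have e1 : m⁻¹ * (v : G) * m = ψ⁻¹ v := by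
      have := hmv (ψ⁻¹ v)
      rw [show ψ (ψ⁻¹ v) = v from MulEquiv.apply_symm_apply ψ v] at this
      rw [← this]; group
    calc m * k * m⁻¹ * (v : G) * (m * k * m⁻¹)⁻¹ = m * (k * (m⁻¹ * (v : G) * m) * k⁻¹) * m⁻¹ := by group
      _ = (ψ * φ * ψ⁻¹) v := by rw [e1, hkv, hmv]; rfl
  rcases h.oct.normal _ hX with hb | hb
  · exfalso
    -- `u` acts nontrivially on `V`
    obtain ⟨a, b, u, w, u', w', U⟩ := h.exists_UV
    have hi := h.ij_mem hY hz
    have huY : u ∈ Y := by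
      obtain ⟨p, q, e⟩ := h.t₁.sq4 U.hu (h.pow4 U.uu)
      rw [e]
      exact Y.mul_mem (Y.pow_mem hi.1 _) (Y.pow_mem hi.2 _)
    have hL := h.amb.large h.t₁.toTetG h.t₂.toTetG
    have hu4 : u ^ 4 = 1 := h.pow4 U.uu
    have huQ := h.amb.mem_Q₁ h.t₁.toTetG h.t₂.toTetG U.hu hu4
    have hVQ : ∀ v ∈ V, v ∈ h.amb.Q h.t₁.toTetG h.t₂.toTetG := by
      intro v hv
      by_cases hv1 : v = 1
      · rw [hv1]; exact one_mem _
      · by_cases hvz : v = z
        · rw [hvz]; exact hL.z_mem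
        · obtain ⟨r, hr, s, hs, e, hrr, hss⟩ := h.exists_uv hv hv1 hvz
          exact ⟨r, hr, s, hs, h.pow4 hrr, h.pow4 hss, e⟩
    have hmem : ∀ v ∈ V, u * v * u⁻¹ ∈ V := by
      intro v hv
      rcases hL.comm u huQ v (hVQ v hv) with e | e
      · rw [e]; simpa using hv
      · rw [e]
        have c1 : Commute z u⁻¹ := by
          have : Commute u z := h.cz₁ U.hu
          exact this.symm.inv_right
        have : v * u * z * u⁻¹ = v * z := by rw [mul_assoc _ z, c1.eq]; group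
        rw [this]
        exact V.mul_mem hv h.zV
    have hun : u ∈ normalizer (V : Set G) := by
      rw [mem_normalizer_iff]
      intro g
      refine ⟨hmem g, fun hg => ?_⟩
      have h1 : u * (u * g * u⁻¹) * u⁻¹ ∈ V := hmem _ hg
      have h2 : u * (u * g * u⁻¹) * u⁻¹ = z * g * z⁻¹ := by
        rw [← U.uu]; group
      rw [h2] at h1
      have h3 : g = z⁻¹ * (z * g * z⁻¹) * z := by group
      rw [h3]
      exact V.mul_mem (V.mul_mem (V.inv_mem h.zV) h1) h.zV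
    have hX1 : V.normalizerMonoidHom ⟨u, hun⟩ ∈ img Y V := mem_img.2 ⟨u, huY, hun, fun v => rfl⟩
    rw [hb, mem_bot] at hX1
    have h1 : u * b * u⁻¹ = b := by
      have := congrArg (fun φ : MulAut V => ((φ ⟨b, U.bas.hw⟩ : V) : G)) hX1
      exact this
    -- `u` commutes with `u'`
    have h2 : u * u' * u⁻¹ = u' := by
      have e1 : u * w' * u⁻¹ = w' := by rw [h.comm u U.hu w' U.hw']; group
      rw [U.b_eq] at h1
      have e2 : (u * u' * u⁻¹) * (u * w' * u⁻¹) = u' * w' := by rw [← h1]; group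
      rw [e1] at e2
      exact mul_right_cancel e2
    -- but commuting elements of order four of `L₁` agree up to inversion
    have h3 : (u * u') * (u * u') = 1 := by
      have e : u * u' = u' * u := mul_inv_eq_iff_eq_mul.1 h2
      calc (u * u') * (u * u') = u * (u' * u) * u' := by group
        _ = u * (u * u') * u' := by rw [e]
        _ = (u * u) * (u' * u') := by group
        _ = 1 := by rw [U.uu, U.uu', h.zz]
    rcases h.t₁.sq1 (L₁.mul_mem U.hu U.hu') h3 with e | e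
    · apply U.ne2
      have : u * u' * u' = u' := by rw [e, one_mul]
      rw [mul_assoc, U.uu'] at this
      calc u = u * z * z := by rw [mul_assoc, h.zz, mul_one]
        _ = u' * z := by rw [this]
    · apply U.ne1
      rw [h.z₁] at e
      have : u * u' * u' = z * u' := by rw [e]
      rw [mul_assoc, U.uu', ← h.cz₁ U.hu'] at this
      exact mul_right_cancel this
  · intro φ
    have : φ ∈ img Y V := by rw [hb]; trivial
    obtain ⟨k, hk, -, hv⟩ := mem_img.1 this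
    exact ⟨k, hk, hv⟩

theorem x_mem (h : Cfg z L₁ L₂ M V i j x k l y) {Y : Subgroup G} (hY : Y.Normal) (hz : z ∈ Y) :
    x ∈ Y := by
  obtain ⟨a, b, u, w, u', w', U⟩ := h.exists_UV
  obtain ⟨c, hc, S⟩ := h.exists_sw U (h.full_of_normal hY hz)
  obtain ⟨g, hg, -, h2⟩ := h.adj U S
  obtain ⟨hi, hj⟩ := h.ij_mem hY hz
  let π := QuotientGroup.mk' Y
  have π1 : ∀ g : G, g ∈ Y → π g = 1 := fun g hg => (QuotientGroup.eq_one_iff g).2 hg
  obtain ⟨p, q, r, e⟩ := h.t₁.gen hg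
  have e1 : π g = π x ^ (r : ℕ) := by
    rw [e, map_mul, map_mul, map_pow, map_pow, map_pow, π1 i hi, π1 j hj]; simp
  have e2 : π x = (π x)⁻¹ := by
    have := congrArg π h2
    simp only [map_mul, map_inv, π1 c hc, mul_one, e1] at this
    rw [← this]
    group
  have e3 : π x * π x = 1 := by
    nth_rewrite 2 [e2]; rw [mul_inv_cancel]
  have e4 : π x ^ 3 = 1 := by rw [← map_pow, h.t₁.x3, map_one]
  have e5 : π x = 1 := by
    have : π x ^ 3 = (π x * π x) * π x := by simp only [pow_succ, pow_zero, one_mul]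
    rw [this, e3, one_mul] at e4
    exact e4
  exact (QuotientGroup.eq_one_iff x).1 e5

theorem cent_le_normal (h : Cfg z L₁ L₂ M V i j x k l y) {Y : Subgroup G} (hY : Y.Normal) (hz : z ∈ Y) (g : G)
    (hg : g * z = z * g) : g ∈ Y := by
  obtain ⟨a, b, u, w, u', w', U⟩ := h.exists_UV
  obtain ⟨c, hc, S⟩ := h.exists_sw U (h.full_of_normal hY hz)
  have hcK := U.not_mem h S
  have hx := h.x_mem hY hz
  have hy := h.symm.x_mem hY hz
  obtain ⟨hi, hj⟩ := h.ij_mem hY hz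
  obtain ⟨hk, hl⟩ := h.symm.ij_mem hY hz
  have hK : L₁ ⊔ L₂ ≤ Y := by
    apply sup_le
    · intro v hv
      obtain ⟨p, q, r, rfl⟩ := h.t₁.gen hv
      exact mul_mem (mul_mem (pow_mem hi _) (pow_mem hj _)) (pow_mem hx _)
    · intro v hv
      obtain ⟨p, q, r, rfl⟩ := h.t₂.gen hv
      exact mul_mem (mul_mem (pow_mem hk _) (pow_mem hl _)) (pow_mem hy _)
  by_cases hgK : g ∈ L₁ ⊔ L₂
  · exact hK hgK
  · have := h.mem_of S.cz hcK hg hgK
    have e : g = c * (c⁻¹ * g) := by group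
    rw [e]
    exact Y.mul_mem hc (hK this)

theorem isSimple (h : Cfg z L₁ L₂ M V i j x k l y) : IsSimpleGroup G := by
  refine LargeSimple.isSimple (h.amb.large h.t₁.toTetG h.t₂.toTetG) (fun Y hY hz => h.cent_le_normal hY hz) ?_
  obtain ⟨a, b, u, w, u', w', U⟩ := h.exists_UV
  obtain ⟨m, -, -, e, -, -⟩ := h.full.bas h.oct U.bas (U.bas.swap12 h.oct)
  refine ⟨m, ?_, ?_⟩
  · rw [e]
    exact ⟨u, U.hu, w, U.hw, h.pow4 U.uu, h.pow4 U.ww, U.a_eq⟩
  · rw [e]; exact U.bas.yx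

end Cfg

end Cfsg.Agent.H244.G2
end

-- part: H244/G2/Main
section
/-!
# From the hypotheses of S2917 to the configuration (helper244)
-/

set_option autoImplicit false
set_option linter.unusedSectionVars false

namespace Cfsg.Agent.H244.G2

open Subgroup Cfsg.Agent.LFourR.QThreeSL Cfsg.Agent.LFourR.QThree Cfsg.Agent.StdL2.G23Aut
open Cfsg.Agent.LargeExtra.W2 Cfsg.Agent.Co2Type.Quad

variable {G : Type*} [Group G]

/-- `⟨z⟩ = Z(L)` -/
theorem TG.central {L : Subgroup G} {i j x : G} (h : TG L i j x) {g : G} (hg : g ∈ L) :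
    g * (i * i) = (i * i) * g := by
  have c1 : Commute i (i * i) := (Commute.refl i).mul_right (Commute.refl i)
  have c2 : Commute j (i * i) := by
    rw [← h.jj]
    exact (Commute.refl j).mul_right (Commute.refl j)
  have c3 : Commute x (i * i) := by
    have : x * (i * i) * x⁻¹ = i * i := by
      calc x * (i * i) * x⁻¹ = (x * i * x⁻¹) * (x * i * x⁻¹) := by group
        _ = i * i := by rw [h.xi, h.jj]
    exact mul_inv_eq_iff_eq_mul.1 this
  obtain ⟨p, q, r, rfl⟩ := h.gen hg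
  exact ((c1.pow_left _).mul_left (c2.pow_left _)).mul_left (c3.pow_left _)

theorem TG.mem_cent {L : Subgroup G} {i j x : G} (h : TG L i j x) {g : G} :
    g ∈ L ⊓ centralizer (L : Set G) ↔ g = 1 ∨ g = i * i := by
  rw [mem_inf, mem_centralizer_iff]
  constructor
  · rintro ⟨h1, h2⟩
    exact h.cen h1 (h2 i h.hi).symm (h2 j h.hj).symm
  · rintro (rfl | rfl)
    · exact ⟨one_mem _, fun g _ => by simp⟩
    · exact ⟨mul_mem h.hi h.hi, fun g hg => h.central hg⟩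

/-- `[L₁, L₂] = 1` -/
theorem comm_of {L₁ L₂ : Subgroup G} {z i j x : G} (h : TG L₁ i j x)
    (n1 : ∀ g ∈ L₂, ∀ v ∈ L₁, g * v * g⁻¹ ∈ L₁) (n2 : ∀ g ∈ L₁, ∀ v ∈ L₂, g * v * g⁻¹ ∈ L₂)
    (hinf : ∀ g, g ∈ L₁ → g ∈ L₂ → g = 1 ∨ g = z) (hzz : z * z = 1) (c1 : ∀ g ∈ L₁, g * z = z * g) :
    ∀ u ∈ L₁, ∀ v ∈ L₂, u * v = v * u := by
  intro u hu v hv
  -- `v` acts on `L₁` by `u ↦ u` or `u z`
  have key : ∀ u ∈ L₁, v * u * v⁻¹ = u ∨ v * u * v⁻¹ = z * u := by
    intro u hu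
    have m1 : v * u * v⁻¹ * u⁻¹ ∈ L₁ := L₁.mul_mem (n1 v hv u hu) (L₁.inv_mem hu)
    have m2 : v * u * v⁻¹ * u⁻¹ ∈ L₂ := by
      have : v * u * v⁻¹ * u⁻¹ = v * (u * v⁻¹ * u⁻¹) := by group
      rw [this]
      exact L₂.mul_mem hv (n2 u hu _ (L₂.inv_mem hv))
    rcases hinf _ m1 m2 with e | e
    · left; exact mul_inv_eq_one.1 e
    · right; exact mul_inv_eq_iff_eq_mul.1 e
  have kx : v * x * v⁻¹ = x := by
    rcases key x h.hx with e | e
    · exact e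
    · have e1 : (v * x * v⁻¹) ^ 3 = 1 := by rw [conj_pow, h.x3, mul_one, mul_inv_cancel]
      have c : Commute z x := (c1 x h.hx).symm
      rw [e, c.mul_pow, h.x3, mul_one] at e1
      have e2 : z = 1 := by
        have : z ^ 3 = z * z * z := by simp only [pow_succ, pow_zero, one_mul]
        rw [this, hzz, one_mul] at e1
        exact e1
      rw [e, e2, one_mul]
  have cx : v * x = x * v := mul_inv_eq_iff_eq_mul.1 kx
  have kc : ∀ w w' : G, v * w * v⁻¹ = w' → v * (x * w * x⁻¹) * v⁻¹ = x * w' * x⁻¹ := by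
    intro w w' e
    calc v * (x * w * x⁻¹) * v⁻¹ = (v * x) * w * (v * x)⁻¹ := by group
      _ = x * (v * w * v⁻¹) * x⁻¹ := by rw [cx]; group
      _ = _ := by rw [e]
  have ki : v * i * v⁻¹ = i := by
    rcases key i h.hi with e | e
    · exact e
    · have e1 := kc _ _ e
      rw [h.xi] at e1
      have e2 : x * (z * i) * x⁻¹ = z * j := by
        rw [← h.xi]
        calc x * (z * i) * x⁻¹ = (x * z) * i * x⁻¹ := by group
          _ = z * (x * i * x⁻¹) := by rw [c1 x h.hx]; group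
      rw [e2] at e1
      have e3 := kc _ _ e1
      rw [h.xj] at e3
      have e4 : x * (z * j) * x⁻¹ = z * (i * j) := by
        rw [← h.xj]
        calc x * (z * j) * x⁻¹ = (x * z) * j * x⁻¹ := by group
          _ = z * (x * j * x⁻¹) := by rw [c1 x h.hx]; group
      rw [e4] at e3
      have e5 : v * (i * j) * v⁻¹ = i * j := by
        calc v * (i * j) * v⁻¹ = (v * i * v⁻¹) * (v * j * v⁻¹) := by group
          _ = (i * z) * (z * j) := by rw [e, e1, c1 i h.hi]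
          _ = i * (z * z) * j := by group
          _ = i * j := by rw [hzz, mul_one]
      rw [e5] at e3
      have e6 : z = 1 := by
        have : 1 * (i * j) = z * (i * j) := by rw [one_mul]; exact e3
        exact (mul_right_cancel this).symm
      rw [e, e6, one_mul]
  have kj : v * j * v⁻¹ = j := by
    have e1 := kc _ _ ki
    rwa [h.xi] at e1
  have ci : Commute v i := mul_inv_eq_iff_eq_mul.1 ki
  have cj : Commute v j := mul_inv_eq_iff_eq_mul.1 kj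
  have cx' : Commute v x := cx
  obtain ⟨p, q, r, rfl⟩ := h.gen hu
  exact (((ci.pow_right _).mul_right (cj.pow_right _)).mul_right (cx'.pow_right _)).symm.eq

theorem card_eq_24 {L : Subgroup G} (e : Nonempty (L ≃* Matrix.SpecialLinearGroup (Fin 2) (ZMod 3))) :
    Nat.card L = 24 := by
  obtain ⟨e⟩ := e
  rw [Nat.card_congr e.toEquiv, Nat.card_eq_fintype_card, LieClassical.SLTwoThree.card_sl]

theorem card_sup [Finite G] {L₁ L₂ : Subgroup G} {z : G} (c1 : Nat.card L₁ = 24) (c2 : Nat.card L₂ = 24)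
    (hcomm : ∀ u ∈ L₁, ∀ v ∈ L₂, u * v = v * u) (hinf : ∀ g, g ∈ L₁ → g ∈ L₂ → g = 1 ∨ g = z)
    (z1 : z ∈ L₁) (z2 : z ∈ L₂) (hz : z ≠ 1) : Nat.card (L₁ ⊔ L₂ : Subgroup G) = 288 := by
  let f : L₁ × L₂ →* G := MonoidHom.noncommCoprod L₁.subtype L₂.subtype
    (fun u v => hcomm u u.2 v v.2)
  have hr : f.range = L₁ ⊔ L₂ := by
    have := MonoidHom.noncommCoprod_range L₁.subtype L₂.subtype (fun u v => hcomm u u.2 v v.2)
    rw [range_subtype, range_subtype] at this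
    exact this
  have hk : Nat.card f.ker = 2 := by
    have hinv : ∀ v : L₂, (z : G) = v → z⁻¹ ∈ L₂ := fun v _ => L₂.inv_mem z2
    have h1 : ∀ p : L₁ × L₂, p ∈ f.ker ↔ p = 1 ∨ p = (⟨z, z1⟩, ⟨z⁻¹, L₂.inv_mem z2⟩) := by
      intro p
      rw [MonoidHom.mem_ker]
      constructor
      · intro hp
        have e : (p.1 : G) * p.2 = 1 := hp
        have e1 : (p.1 : G) = (p.2 : G)⁻¹ := eq_inv_of_mul_eq_one_left e
        rcases hinf p.1 p.1.2 (by rw [e1]; exact L₂.inv_mem p.2.2) with e2 | e2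
        · left
          have e3 : (p.2 : G) = 1 := by rw [e2, one_mul] at e; exact e
          exact Prod.ext (Subtype.ext e2) (Subtype.ext e3)
        · right
          have e3 : (p.2 : G) = z⁻¹ := by rw [← e2]; exact (inv_eq_of_mul_eq_one_right e).symm
          exact Prod.ext (Subtype.ext e2) (Subtype.ext e3)
      · rintro (rfl | rfl)
        · exact map_one f
        · show z * z⁻¹ = 1
          exact mul_inv_cancel z
    have h2 : (f.ker : Set (L₁ × L₂)) = {1, (⟨z, z1⟩, ⟨z⁻¹, L₂.inv_mem z2⟩)} := by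
      ext p
      rw [SetLike.mem_coe, h1]
      simp
    have h3 : Nat.card f.ker = (f.ker : Set (L₁ × L₂)).ncard := rfl
    rw [h3, h2, Set.ncard_pair]
    intro e
    apply hz
    exact (congrArg (fun p : L₁ × L₂ => (p.1 : G)) e).symm
  have h1 := f.ker.card_mul_index
  rw [index_ker, hk, hr, Nat.card_prod, c1, c2] at h1
  omega

/-- `SL(3,2)` is simple of order 168 -/
theorem card_sl32 : Nat.card (Matrix.SpecialLinearGroup (Fin 3) (ZMod 2)) = 168 := by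
  rw [← card_GL]
  exact Nat.card_congr (Equiv.ofBijective _ ⟨toGL_injective, toGL_surjective⟩)

theorem simple_sl32 : IsSimpleGroup (Matrix.SpecialLinearGroup (Fin 3) (ZMod 2)) := by
  have e : Matrix.SpecialLinearGroup (Fin 3) (ZMod 2) ≃* GL (Fin 3) (ZMod 2) :=
    MulEquiv.ofBijective _ ⟨toGL_injective, toGL_surjective⟩
  have := simple_GL
  exact e.isSimpleGroup

/-- `M` induces `Aut(V)` on `V = O₂(M)` -/
theorem full_of [Finite G] {M O : Subgroup G} (hOM : O ≤ M) [hn : (O.subgroupOf M).Normal] (hO : Oct O)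
    (e : Nonempty ((↥M ⧸ O.subgroupOf M) ≃* Matrix.SpecialLinearGroup (Fin 3) (ZMod 2)))
    (hM : ¬ M ≤ centralizer (O : Set G)) : Full M O := by
  obtain ⟨e⟩ := e
  have hs : IsSimpleGroup (↥M ⧸ O.subgroupOf M) := by
    have := simple_sl32
    exact e.isSimpleGroup
  have hN : M ≤ normalizer (O : Set G) := by
    intro m hm
    rw [mem_normalizer_iff]
    have key : ∀ m ∈ M, ∀ g ∈ O, m * g * m⁻¹ ∈ O := by
      intro m hm g hg
      have := hn.conj_mem ⟨g, hOM hg⟩ (mem_subgroupOf.2 hg) ⟨m, hm⟩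
      exact mem_subgroupOf.1 this
    intro g
    refine ⟨key m hm g, fun h => ?_⟩
    have := key m⁻¹ (M.inv_mem hm) _ h
    have e : m⁻¹ * (m * g * m⁻¹) * m⁻¹⁻¹ = g := by group
    rwa [e] at this
  have hcard : Nat.card M = 1344 := by
    have h1 := (O.subgroupOf M).card_mul_index
    have h2 : Nat.card (O.subgroupOf M) = 8 := by
      rw [Nat.card_congr (subgroupOfEquivOfLe hOM).toEquiv, hO.card]
    have h3 : (O.subgroupOf M).index = 168 := by
      rw [index_eq_card, Nat.card_congr e.toEquiv, card_sl32]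
    rw [h2, h3] at h1
    omega
  rw [full_iff hN]
  -- the centralizer
  set D : Subgroup M := (centralizer (O : Set G)).subgroupOf M with hD
  have hDn : D.Normal := by
    refine ⟨fun d hd m => ?_⟩
    rw [hD, mem_subgroupOf, mem_centralizer_iff] at hd ⊢
    intro v hv
    have h1 : (m : G)⁻¹ * v * m ∈ O := by
      have := (mem_normalizer_iff.1 (hN (M.inv_mem m.2)) v).1 hv
      rwa [inv_inv] at this
    have h2 := hd _ h1
    show v * ((m : G) * d * (m : G)⁻¹) = (m : G) * d * (m : G)⁻¹ * v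
    calc v * ((m : G) * d * (m : G)⁻¹) = m * (((m : G)⁻¹ * v * m) * d) * (m : G)⁻¹ := by group
      _ = m * (d * ((m : G)⁻¹ * v * m)) * (m : G)⁻¹ := by rw [h2]
      _ = _ := by group
  have hOD : O.subgroupOf M ≤ D := by
    intro v hv
    rw [hD, mem_subgroupOf, mem_centralizer_iff]
    intro w hw
    exact hO.comm hw (mem_subgroupOf.1 hv)
  have hDO : D = O.subgroupOf M := by
    have h1 : (D.map (QuotientGroup.mk' (O.subgroupOf M))).Normal :=
      hDn.map _ (QuotientGroup.mk'_surjective _)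
    have h2 : (D.map (QuotientGroup.mk' (O.subgroupOf M))).comap (QuotientGroup.mk' (O.subgroupOf M)) = D := by
      rw [comap_map_eq, QuotientGroup.ker_mk', sup_eq_left]
      exact hOD
    rcases h1.eq_bot_or_eq_top with h3 | h3
    · rw [← h2, h3, MonoidHom.comap_bot, QuotientGroup.ker_mk']
    · exfalso
      rw [h3, comap_top] at h2
      apply hM
      intro m hm
      have : (⟨m, hm⟩ : M) ∈ D := by rw [← h2]; trivial
      exact mem_subgroupOf.1 this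
  have h1 := card_img_mul hN
  have h2 : Nat.card (M ⊓ centralizer (O : Set G) : Subgroup G) = 8 := by
    rw [inf_comm, ← card_inf_eq, ← hD, hDO, Nat.card_congr (subgroupOfEquivOfLe hOM).toEquiv, hO.card]
  rw [h2, hcard] at h1
  have := hO.finite_aut
  apply eq_top_of_card_eq
  rw [hO.card_aut]
  omega

/-- the hypotheses of S2917 -/
theorem exists_cfg [Finite G] (H H₁ H₂ M : Subgroup G) (h1 : H₁ ≤ H) (h2 : H₂ ≤ H)
    (hn1 : (H₁.subgroupOf H).Normal) (hn2 : (H₂.subgroupOf H).Normal)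
    (hiso1 : Nonempty (↥H₁ ≃* Matrix.SpecialLinearGroup (Fin 2) (ZMod 3)))
    (hiso2 : Nonempty (↥H₂ ≃* Matrix.SpecialLinearGroup (Fin 2) (ZMod 3)))
    (hidx : (H₁ ⊔ H₂).relIndex H = 2)
    (hint1 : H₁ ⊓ H₂ = H₁ ⊓ Subgroup.centralizer (H₁ : Set G))
    (hint2 : H₁ ⊓ H₂ = H₂ ⊓ Subgroup.centralizer (H₂ : Set G))
    (hHC : H = Subgroup.centralizer ((H₁ ⊓ H₂ : Subgroup G) : Set G)) [hOM : (Cfsg.pCore 2 ↥M).Normal]
    (hM : Nonempty ((↥M ⧸ Cfsg.pCore 2 ↥M) ≃* Matrix.SpecialLinearGroup (Fin 3) (ZMod 2)))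
    (hOel : Cfsg.IsElementaryAbelian 2 (Cfsg.pCore 2 ↥M)) (hOcard : Nat.card ↥(Cfsg.pCore 2 ↥M) = 8)
    (hZin : H₁ ⊓ H₂ ≤ (Cfsg.pCore 2 ↥M).map M.subtype) :
    ∃ z i j x k l y : G, Cfg z H₁ H₂ M ((Cfsg.pCore 2 ↥M).map M.subtype) i j x k l y ∧
      Nat.card (centralizer ({z} : Set G)) = 576 := by
  obtain ⟨i, j, x, t₁⟩ := exists_TG hiso1
  obtain ⟨k, l, y, t₂⟩ := exists_TG hiso2
  have hm1 : ∀ g, g ∈ H₁ ⊓ H₂ ↔ g = 1 ∨ g = i * i := fun g => by rw [hint1]; exact t₁.mem_cent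
  have hm2 : ∀ g, g ∈ H₁ ⊓ H₂ ↔ g = 1 ∨ g = k * k := fun g => by rw [hint2]; exact t₂.mem_cent
  have hki : k * k = i * i := by
    rcases (hm1 (k * k)).1 ((hm2 _).2 (Or.inr rfl)) with e | e
    · exact absurd e t₂.ne
    · exact e
  obtain ⟨z, hz⟩ : ∃ z, i * i = z := ⟨_, rfl⟩
  rw [hz] at hm1 hki
  have hzH := (hm1 z).2 (Or.inr rfl)
  have hne : z ≠ 1 := hz ▸ t₁.ne
  have hzz : z * z = 1 := hz ▸ t₁.i4
  have hHz : ∀ g, g ∈ H ↔ g * z = z * g := by
    intro g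
    rw [hHC, mem_centralizer_iff]
    constructor
    · intro h
      exact (h z hzH).symm
    · intro h v hv
      rcases (hm1 v).1 hv with rfl | rfl
      · simp
      · exact h.symm
  have hHC' : H = centralizer ({z} : Set G) := by
    ext g
    rw [hHz, mem_centralizer_singleton_iff]
  have nH1 : ∀ g ∈ H, ∀ v ∈ H₁, g * v * g⁻¹ ∈ H₁ := fun g hg v hv =>
    mem_subgroupOf.1 (hn1.conj_mem ⟨v, h1 hv⟩ (mem_subgroupOf.2 hv) ⟨g, hg⟩)
  have nH2 : ∀ g ∈ H, ∀ v ∈ H₂, g * v * g⁻¹ ∈ H₂ := fun g hg v hv =>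
    mem_subgroupOf.1 (hn2.conj_mem ⟨v, h2 hv⟩ (mem_subgroupOf.2 hv) ⟨g, hg⟩)
  have hinf : ∀ g, g ∈ H₁ → g ∈ H₂ → g = 1 ∨ g = z := fun g h3 h4 => (hm1 g).1 (mem_inf.2 ⟨h3, h4⟩)
  have hcomm := comm_of (z := z) t₁ (fun g hg => nH1 g (h2 hg)) (fun g hg => nH2 g (h1 hg)) hinf hzz
    (fun g hg => (hHz g).1 (h1 hg))
  have hK : H₁ ⊔ H₂ ≤ H := sup_le h1 h2
  have hcard : Nat.card H = 576 := by
    have e1 := card_sup (card_eq_24 hiso1) (card_eq_24 hiso2) hcomm hinf (mem_inf.1 hzH).1 (mem_inf.1 hzH).2 hne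
    have e2 := ((H₁ ⊔ H₂).subgroupOf H).card_mul_index
    rw [Nat.card_congr (subgroupOfEquivOfLe hK).toEquiv, e1, show ((H₁ ⊔ H₂).subgroupOf H).index = 2 from hidx] at e2
    omega
  have hV : Oct ((Cfsg.pCore 2 ↥M).map M.subtype) := by
    refine ⟨?_, ?_⟩
    · rw [card_map_of_injective M.subtype_injective, hOcard]
    · rintro _ ⟨v, hv, rfl⟩
      have := hOel.2 v hv
      rw [pow_two] at this
      exact congrArg Subtype.val this
  have hVM : (Cfsg.pCore 2 ↥M).map M.subtype ≤ M := by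
    rintro _ ⟨v, -, rfl⟩
    exact v.2
  have hVs : ((Cfsg.pCore 2 ↥M).map M.subtype).subgroupOf M = Cfsg.pCore 2 ↥M := by
    rw [subgroupOf, comap_map_eq_self_of_injective M.subtype_injective]
  have hfull : Full M ((Cfsg.pCore 2 ↥M).map M.subtype) := by
    have hn' : (((Cfsg.pCore 2 ↥M).map M.subtype).subgroupOf M).Normal := by rw [hVs]; exact hOM
    refine full_of hVM hV ?_ ?_
    · obtain ⟨e⟩ := hM
      exact ⟨(QuotientGroup.quotientMulEquivOfEq hVs).trans e⟩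
    · intro hc
      have hMH : M ≤ H := by
        intro m hm
        rw [hHz]
        exact (mem_centralizer_iff.1 (hc hm) z (hZin hzH)).symm
      have h3 := card_dvd_of_le hMH
      have h4 : Nat.card M = 1344 := by
        have h5 := (Cfsg.pCore 2 ↥M).card_mul_index
        rw [index_eq_card, Nat.card_congr hM.some.toEquiv, card_sl32, hOcard] at h5
        omega
      rw [h4, hcard] at h3
      omega
  refine ⟨z, i, j, x, k, l, y, ?_, by rw [← hHC', hcard]⟩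
  exact
    { t₁ := t₁
      t₂ := t₂
      z₁ := hz
      z₂ := hki
      inf := hinf
      norm := fun g hg => ⟨nH1 g ((hHz g).2 hg), nH2 g ((hHz g).2 hg)⟩
      comm := hcomm
      idx := by
        intro g g' hg hg' hgK hgK'
        have e1 := mul_mem_iff_of_index_two (H := (H₁ ⊔ H₂).subgroupOf H) hidx
          (a := ⟨g, (hHz g).2 hg⟩) (b := ⟨g', (hHz g').2 hg'⟩)
        have e2 := e1.2 ⟨fun h => absurd (mem_subgroupOf.1 h) hgK, fun h => absurd (mem_subgroupOf.1 h) hgK'⟩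
        exact mem_subgroupOf.1 e2
      oct := hV
      zV := hZin hzH
      full := hfull }

end Cfsg.Agent.H244.G2
end
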